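import Groth.Agent.CommAlgDim.Depth
import Mathlib

/-! Hartshorne connectedness: the punctured spectrum of a local ring of depth at least two. -/

set_option autoImplicit false
set_option linter.style.haveILetI false

universe u

open IsLocalRing CommAlgDim RingTheory.Sequence Pointwise

namespace PunctConnLib

variable {R : Type u} [CommRing R] [IsNoetherianRing R] [IsLocalRing R]

/-- In depth at least two, two ideals with zero product and primary sum: one of them is zero. -/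
theorem eq_bot_or_eq_bot (h : (2 : ℕ∞) ≤ LocCoh.depth R R) (I J : Ideal R) (hI : I ≠ ⊤) (hJ : J ≠ ⊤)
    (h0 : ∀ x ∈ I, ∀ y ∈ J, x * y = 0) (hm : maximalIdeal R ≤ (I ⊔ J).radical) : I = ⊥ ∨ J = ⊥ := by
  have h2 : HasSeqIn (maximalIdeal R) R 2 := (le_depth_iff 2).1 h
  obtain ⟨rs, hl, hmem, hr⟩ := h2
  obtain ⟨x, y, rfl⟩ := List.length_eq_two.1 hl
  rw [isWeaklyRegular_cons_iff] at hr
  obtain ⟨n, hn⟩ := hm (hmem x (by simp))
  obtain ⟨a, ha, b, hb, hab⟩ := Submodule.mem_sup.1 hn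
  have hc : IsSMulRegular R (a + b) := hab.symm ▸ hr.1.pow n
  have hreg : ∀ u : R, (a + b) * u = 0 → u = 0 := fun u hu =>
    hc (show (a + b) • u = (a + b) • (0 : R) by rw [smul_zero, smul_eq_mul, hu])
  have hcm : a + b ∈ maximalIdeal R :=
    add_mem (le_maximalIdeal hI ha) (le_maximalIdeal hJ hb)
  obtain ⟨zs, hzl, hzm, hzr⟩ := ((le_depth_iff 2).1 h).quotSMulTop hcm hc
  obtain ⟨z, rfl⟩ := List.length_eq_one_iff.1 hzl
  rw [isWeaklyRegular_singleton_iff] at hzr
  obtain ⟨k, hk⟩ := hm (hzm z (by simp))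
  obtain ⟨p, hp, q, hq, hpq⟩ := Submodule.mem_sup.1 hk
  have hmem' : a ∈ (a + b) • (⊤ : Submodule R R) := by
    refine (Submodule.Quotient.mk_eq_zero _).1 ((hzr.pow k) (?_ : z ^ k • _ = z ^ k • (0 : QuotSMulTop (a + b) R)))
    rw [smul_zero, ← Submodule.Quotient.mk_smul, Submodule.Quotient.mk_eq_zero]
    refine (Submodule.mem_smul_pointwise_iff_exists _ _ _).2 ⟨p, trivial, ?_⟩
    rw [smul_eq_mul, smul_eq_mul, ← hpq]
    linear_combination h0 p hp b hb - h0 a ha q hq
  obtain ⟨r, -, hr'⟩ := (Submodule.mem_smul_pointwise_iff_exists _ _ _).1 hmem'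
  rw [smul_eq_mul] at hr'
  -- `a (1 - r) = r b` lies in `I` and `J`
  have hz : (a + b) * (a * (1 - r)) = 0 := by
    have e : a * (1 - r) = b * r := by linear_combination -hr'
    rw [add_mul]
    have h1 : a * (a * (1 - r)) = 0 := by rw [e, ← mul_assoc, h0 a ha b hb, zero_mul]
    have h2 : b * (a * (1 - r)) = 0 := by rw [← mul_assoc, mul_comm b a, h0 a ha b hb, zero_mul]
    rw [h1, h2, add_zero]
  have ha0 : a * (1 - r) = 0 := hreg _ hz
  have hb0 : b * r = 0 := by linear_combination hr' + ha0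
  rcases IsLocalRing.isUnit_or_isUnit_one_sub_self r with hu | hu
  · have hb' : b = 0 := hu.mul_left_eq_zero.1 hb0
    exact Or.inr ((Submodule.eq_bot_iff J).2 fun j hj => hreg j (by rw [hb', add_zero, h0 a ha j hj]))
  · have ha' : a = 0 := hu.mul_left_eq_zero.1 ha0
    exact Or.inl ((Submodule.eq_bot_iff I).2 fun i hi => hreg i (by rw [ha', zero_add, mul_comm, h0 i hi b hb]))

/-- Hartshorne: the punctured spectrum of a local ring of depth at least two is connected. -/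
theorem not_disconnected (h : (2 : ℕ∞) ≤ LocCoh.depth R R) (I J : Ideal R)
    (hcov : ∀ P : Ideal R, P.IsPrime → I ≤ P ∨ J ≤ P) (hinter : maximalIdeal R ≤ (I ⊔ J).radical)
    (hIne : ∃ P : Ideal R, P.IsPrime ∧ I ≤ P ∧ P ≠ maximalIdeal R)
    (hJne : ∃ P : Ideal R, P.IsPrime ∧ J ≤ P ∧ P ≠ maximalIdeal R) : False := by
  obtain ⟨P, hP, hIP, hPm⟩ := hIne
  obtain ⟨Q, hQ, hJQ, hQm⟩ := hJne
  have hnil : I * J ≤ nilradical R := by
    refine le_of_le_of_eq (le_sInf fun p hp => ?_) (nilradical_eq_sInf R).symm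
    rcases hcov p hp with h | h
    · exact Ideal.mul_le_left.trans h |>.trans le_rfl
    · exact Ideal.mul_le_right.trans h
  obtain ⟨N, hN⟩ := Ideal.exists_pow_le_of_le_radical_of_fg (J := (⊥ : Ideal R)) (I := I * J) hnil (IsNoetherian.noetherian _)
  have h0 : ∀ u ∈ I ^ (N + 1), ∀ v ∈ J ^ (N + 1), u * v = 0 := fun u hu v hv => by
    have : u * v ∈ (I * J) ^ N := by
      rw [mul_pow]
      exact Ideal.mul_mem_mul (Ideal.pow_le_pow_right (Nat.le_succ N) hu) (Ideal.pow_le_pow_right (Nat.le_succ N) hv)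
    simpa using hN this
  have hsup : maximalIdeal R ≤ (I ^ (N + 1) ⊔ J ^ (N + 1)).radical := by
    refine hinter.trans (Ideal.radical_le_radical_iff.2 ?_)
    exact sup_le (fun i hi => ⟨N + 1, Ideal.mem_sup_left (Ideal.pow_mem_pow hi _)⟩)
      fun j hj => ⟨N + 1, Ideal.mem_sup_right (Ideal.pow_mem_pow hj _)⟩
  have hlt : ∀ (K : Ideal R) (W : Ideal R), W.IsPrime → K ≤ W → K ^ (N + 1) ≠ ⊤ := fun K W hW hKW he =>
    hW.ne_top (top_le_iff.1 (he ▸ (Ideal.pow_le_self (Nat.succ_ne_zero N)).trans hKW))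
  rcases eq_bot_or_eq_bot h _ _ (hlt I P hP hIP) (hlt J Q hQ hJQ) h0 hsup with he | he
  · refine hQm ((le_antisymm (le_maximalIdeal hQ.ne_top) ?_))
    refine hinter.trans (hQ.radical_le_iff.2 (sup_le ?_ hJQ))
    exact fun i hi => hQ.mem_of_pow_mem (N + 1) (by
      have : i ^ (N + 1) ∈ I ^ (N + 1) := Ideal.pow_mem_pow hi _
      rw [he] at this
      simpa using (show i ^ (N + 1) ∈ (⊥ : Ideal R) from this) ▸ Q.zero_mem)
  · refine hPm ((le_antisymm (le_maximalIdeal hP.ne_top) ?_))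
    refine hinter.trans (hP.radical_le_iff.2 (sup_le hIP ?_))
    exact fun i hi => hP.mem_of_pow_mem (N + 1) (by
      have : i ^ (N + 1) ∈ J ^ (N + 1) := Ideal.pow_mem_pow hi _
      rw [he] at this
      simpa using (show i ^ (N + 1) ∈ (⊥ : Ideal R) from this) ▸ P.zero_mem)

end PunctConnLib
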